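import Cfsg.Agent.Lib.Fus.Transv.EnumH.LogHData

/-! Checks of a coset enumeration. -/

set_option autoImplicit false
set_option maxRecDepth 100000
set_option maxHeartbeats 4000000
set_option Elab.async false

namespace Cfsg.Agent.Fus.Transv.EnumH

open Cfsg.Agent.Spor.Cos

theorem logH_def0 : allBlock logH.chkDef 106902 512 0 = true := by decide +kernel

theorem logH_def1 : allBlock logH.chkDef 106902 512 1 = true := by decide +kernel

theorem logH_def2 : allBlock logH.chkDef 106902 512 2 = true := by decide +kernel

theorem logH_def3 : allBlock logH.chkDef 106902 512 3 = true := by decide +kernel

theorem logH_def4 : allBlock logH.chkDef 106902 512 4 = true := by decide +kernel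

theorem logH_def5 : allBlock logH.chkDef 106902 512 5 = true := by decide +kernel

theorem logH_def6 : allBlock logH.chkDef 106902 512 6 = true := by decide +kernel

theorem logH_def7 : allBlock logH.chkDef 106902 512 7 = true := by decide +kernel

theorem logH_def8 : allBlock logH.chkDef 106902 512 8 = true := by decide +kernel

theorem logH_def9 : allBlock logH.chkDef 106902 512 9 = true := by decide +kernel

theorem logH_def10 : allBlock logH.chkDef 106902 512 10 = true := by decide +kernel

theorem logH_def11 : allBlock logH.chkDef 106902 512 11 = true := by decide +kernel

theorem logH_def12 : allBlock logH.chkDef 106902 512 12 = true := by decide +kernel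

theorem logH_def13 : allBlock logH.chkDef 106902 512 13 = true := by decide +kernel

end Cfsg.Agent.Fus.Transv.EnumH
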