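import Cfsg.Agent.Lib.Fus.Transv.EnumH.LogHData

/-! Checks of a coset enumeration. -/

set_option autoImplicit false
set_option maxRecDepth 100000
set_option maxHeartbeats 4000000
set_option Elab.async false

namespace Cfsg.Agent.Fus.Transv.EnumH

open Cfsg.Agent.Spor.Cos

theorem logH_def154 : allBlock logH.chkDef 106902 512 154 = true := by decide +kernel

theorem logH_def155 : allBlock logH.chkDef 106902 512 155 = true := by decide +kernel

theorem logH_def156 : allBlock logH.chkDef 106902 512 156 = true := by decide +kernel

theorem logH_def157 : allBlock logH.chkDef 106902 512 157 = true := by decide +kernel

theorem logH_def158 : allBlock logH.chkDef 106902 512 158 = true := by decide +kernel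

theorem logH_def159 : allBlock logH.chkDef 106902 512 159 = true := by decide +kernel

theorem logH_def160 : allBlock logH.chkDef 106902 512 160 = true := by decide +kernel

theorem logH_def161 : allBlock logH.chkDef 106902 512 161 = true := by decide +kernel

theorem logH_def162 : allBlock logH.chkDef 106902 512 162 = true := by decide +kernel

theorem logH_def163 : allBlock logH.chkDef 106902 512 163 = true := by decide +kernel

theorem logH_def164 : allBlock logH.chkDef 106902 512 164 = true := by decide +kernel

theorem logH_def165 : allBlock logH.chkDef 106902 512 165 = true := by decide +kernel

theorem logH_def166 : allBlock logH.chkDef 106902 512 166 = true := by decide +kernel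

theorem logH_def167 : allBlock logH.chkDef 106902 512 167 = true := by decide +kernel

end Cfsg.Agent.Fus.Transv.EnumH
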