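import Cfsg.Agent.Lib.Fus.Transv.EnumH.LogHData

/-! Checks of a coset enumeration. -/

set_option autoImplicit false
set_option maxRecDepth 100000
set_option maxHeartbeats 4000000
set_option Elab.async false

namespace Cfsg.Agent.Fus.Transv.EnumH

open Cfsg.Agent.Spor.Cos

theorem logH_def168 : allBlock logH.chkDef 106902 512 168 = true := by decide +kernel

theorem logH_def169 : allBlock logH.chkDef 106902 512 169 = true := by decide +kernel

theorem logH_def170 : allBlock logH.chkDef 106902 512 170 = true := by decide +kernel

theorem logH_def171 : allBlock logH.chkDef 106902 512 171 = true := by decide +kernel

theorem logH_def172 : allBlock logH.chkDef 106902 512 172 = true := by decide +kernel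

theorem logH_def173 : allBlock logH.chkDef 106902 512 173 = true := by decide +kernel

theorem logH_def174 : allBlock logH.chkDef 106902 512 174 = true := by decide +kernel

theorem logH_def175 : allBlock logH.chkDef 106902 512 175 = true := by decide +kernel

theorem logH_def176 : allBlock logH.chkDef 106902 512 176 = true := by decide +kernel

theorem logH_def177 : allBlock logH.chkDef 106902 512 177 = true := by decide +kernel

theorem logH_def178 : allBlock logH.chkDef 106902 512 178 = true := by decide +kernel

theorem logH_def179 : allBlock logH.chkDef 106902 512 179 = true := by decide +kernel

theorem logH_def180 : allBlock logH.chkDef 106902 512 180 = true := by decide +kernel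

theorem logH_def181 : allBlock logH.chkDef 106902 512 181 = true := by decide +kernel

end Cfsg.Agent.Fus.Transv.EnumH
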