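import Cfsg.Agent.Lib.Fus.Transv.EnumH.LogHData

/-! Checks of a coset enumeration. -/

set_option autoImplicit false
set_option maxRecDepth 100000
set_option maxHeartbeats 4000000
set_option Elab.async false

namespace Cfsg.Agent.Fus.Transv.EnumH

open Cfsg.Agent.Spor.Cos

theorem logH_def42 : allBlock logH.chkDef 106902 512 42 = true := by decide +kernel

theorem logH_def43 : allBlock logH.chkDef 106902 512 43 = true := by decide +kernel

theorem logH_def44 : allBlock logH.chkDef 106902 512 44 = true := by decide +kernel

theorem logH_def45 : allBlock logH.chkDef 106902 512 45 = true := by decide +kernel

theorem logH_def46 : allBlock logH.chkDef 106902 512 46 = true := by decide +kernel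

theorem logH_def47 : allBlock logH.chkDef 106902 512 47 = true := by decide +kernel

theorem logH_def48 : allBlock logH.chkDef 106902 512 48 = true := by decide +kernel

theorem logH_def49 : allBlock logH.chkDef 106902 512 49 = true := by decide +kernel

theorem logH_def50 : allBlock logH.chkDef 106902 512 50 = true := by decide +kernel

theorem logH_def51 : allBlock logH.chkDef 106902 512 51 = true := by decide +kernel

theorem logH_def52 : allBlock logH.chkDef 106902 512 52 = true := by decide +kernel

theorem logH_def53 : allBlock logH.chkDef 106902 512 53 = true := by decide +kernel

theorem logH_def54 : allBlock logH.chkDef 106902 512 54 = true := by decide +kernel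

theorem logH_def55 : allBlock logH.chkDef 106902 512 55 = true := by decide +kernel

end Cfsg.Agent.Fus.Transv.EnumH
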