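import Cfsg.Agent.Lib.Fus.Transv.EnumH.LogHData

/-! Checks of a coset enumeration. -/

set_option autoImplicit false
set_option maxRecDepth 100000
set_option maxHeartbeats 4000000
set_option Elab.async false

namespace Cfsg.Agent.Fus.Transv.EnumH

open Cfsg.Agent.Spor.Cos

theorem logH_def56 : allBlock logH.chkDef 106902 512 56 = true := by decide +kernel

theorem logH_def57 : allBlock logH.chkDef 106902 512 57 = true := by decide +kernel

theorem logH_def58 : allBlock logH.chkDef 106902 512 58 = true := by decide +kernel

theorem logH_def59 : allBlock logH.chkDef 106902 512 59 = true := by decide +kernel

theorem logH_def60 : allBlock logH.chkDef 106902 512 60 = true := by decide +kernel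

theorem logH_def61 : allBlock logH.chkDef 106902 512 61 = true := by decide +kernel

theorem logH_def62 : allBlock logH.chkDef 106902 512 62 = true := by decide +kernel

theorem logH_def63 : allBlock logH.chkDef 106902 512 63 = true := by decide +kernel

theorem logH_def64 : allBlock logH.chkDef 106902 512 64 = true := by decide +kernel

theorem logH_def65 : allBlock logH.chkDef 106902 512 65 = true := by decide +kernel

theorem logH_def66 : allBlock logH.chkDef 106902 512 66 = true := by decide +kernel

theorem logH_def67 : allBlock logH.chkDef 106902 512 67 = true := by decide +kernel

theorem logH_def68 : allBlock logH.chkDef 106902 512 68 = true := by decide +kernel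

theorem logH_def69 : allBlock logH.chkDef 106902 512 69 = true := by decide +kernel

end Cfsg.Agent.Fus.Transv.EnumH
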