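import Cfsg.Agent.Lib.Fus.Transv.EnumH.LogHData

/-! Checks of a coset enumeration. -/

set_option autoImplicit false
set_option maxRecDepth 100000
set_option maxHeartbeats 4000000
set_option Elab.async false

namespace Cfsg.Agent.Fus.Transv.EnumH

open Cfsg.Agent.Spor.Cos

theorem logH_def70 : allBlock logH.chkDef 106902 512 70 = true := by decide +kernel

theorem logH_def71 : allBlock logH.chkDef 106902 512 71 = true := by decide +kernel

theorem logH_def72 : allBlock logH.chkDef 106902 512 72 = true := by decide +kernel

theorem logH_def73 : allBlock logH.chkDef 106902 512 73 = true := by decide +kernel

theorem logH_def74 : allBlock logH.chkDef 106902 512 74 = true := by decide +kernel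

theorem logH_def75 : allBlock logH.chkDef 106902 512 75 = true := by decide +kernel

theorem logH_def76 : allBlock logH.chkDef 106902 512 76 = true := by decide +kernel

theorem logH_def77 : allBlock logH.chkDef 106902 512 77 = true := by decide +kernel

theorem logH_def78 : allBlock logH.chkDef 106902 512 78 = true := by decide +kernel

theorem logH_def79 : allBlock logH.chkDef 106902 512 79 = true := by decide +kernel

theorem logH_def80 : allBlock logH.chkDef 106902 512 80 = true := by decide +kernel

theorem logH_def81 : allBlock logH.chkDef 106902 512 81 = true := by decide +kernel

theorem logH_def82 : allBlock logH.chkDef 106902 512 82 = true := by decide +kernel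

theorem logH_def83 : allBlock logH.chkDef 106902 512 83 = true := by decide +kernel

end Cfsg.Agent.Fus.Transv.EnumH
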