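import Cfsg.Agent.Lib.Fus.Transv.EnumH.LogHData

/-! Checks of a coset enumeration. -/

set_option autoImplicit false
set_option maxRecDepth 100000
set_option maxHeartbeats 4000000
set_option Elab.async false

namespace Cfsg.Agent.Fus.Transv.EnumH

open Cfsg.Agent.Spor.Cos

theorem logH_def84 : allBlock logH.chkDef 106902 512 84 = true := by decide +kernel

theorem logH_def85 : allBlock logH.chkDef 106902 512 85 = true := by decide +kernel

theorem logH_def86 : allBlock logH.chkDef 106902 512 86 = true := by decide +kernel

theorem logH_def87 : allBlock logH.chkDef 106902 512 87 = true := by decide +kernel

theorem logH_def88 : allBlock logH.chkDef 106902 512 88 = true := by decide +kernel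

theorem logH_def89 : allBlock logH.chkDef 106902 512 89 = true := by decide +kernel

theorem logH_def90 : allBlock logH.chkDef 106902 512 90 = true := by decide +kernel

theorem logH_def91 : allBlock logH.chkDef 106902 512 91 = true := by decide +kernel

theorem logH_def92 : allBlock logH.chkDef 106902 512 92 = true := by decide +kernel

theorem logH_def93 : allBlock logH.chkDef 106902 512 93 = true := by decide +kernel

theorem logH_def94 : allBlock logH.chkDef 106902 512 94 = true := by decide +kernel

theorem logH_def95 : allBlock logH.chkDef 106902 512 95 = true := by decide +kernel

theorem logH_def96 : allBlock logH.chkDef 106902 512 96 = true := by decide +kernel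

theorem logH_def97 : allBlock logH.chkDef 106902 512 97 = true := by decide +kernel

end Cfsg.Agent.Fus.Transv.EnumH
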