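import Cfsg.Agent.Lib.Fus.Transv.EnumH.LogHData

/-! Checks of a coset enumeration. -/

set_option autoImplicit false
set_option maxRecDepth 100000
set_option maxHeartbeats 4000000
set_option Elab.async false

namespace Cfsg.Agent.Fus.Transv.EnumH

open Cfsg.Agent.Spor.Cos

theorem logH_def98 : allBlock logH.chkDef 106902 512 98 = true := by decide +kernel

theorem logH_def99 : allBlock logH.chkDef 106902 512 99 = true := by decide +kernel

theorem logH_def100 : allBlock logH.chkDef 106902 512 100 = true := by decide +kernel

theorem logH_def101 : allBlock logH.chkDef 106902 512 101 = true := by decide +kernel

theorem logH_def102 : allBlock logH.chkDef 106902 512 102 = true := by decide +kernel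

theorem logH_def103 : allBlock logH.chkDef 106902 512 103 = true := by decide +kernel

theorem logH_def104 : allBlock logH.chkDef 106902 512 104 = true := by decide +kernel

theorem logH_def105 : allBlock logH.chkDef 106902 512 105 = true := by decide +kernel

theorem logH_def106 : allBlock logH.chkDef 106902 512 106 = true := by decide +kernel

theorem logH_def107 : allBlock logH.chkDef 106902 512 107 = true := by decide +kernel

theorem logH_def108 : allBlock logH.chkDef 106902 512 108 = true := by decide +kernel

theorem logH_def109 : allBlock logH.chkDef 106902 512 109 = true := by decide +kernel

theorem logH_def110 : allBlock logH.chkDef 106902 512 110 = true := by decide +kernel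

theorem logH_def111 : allBlock logH.chkDef 106902 512 111 = true := by decide +kernel

end Cfsg.Agent.Fus.Transv.EnumH
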