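import Cfsg.Agent.Lib.Fus.Transv.EnumH.LogHData

/-! Checks of a coset enumeration. -/

set_option autoImplicit false
set_option maxRecDepth 100000
set_option maxHeartbeats 4000000
set_option Elab.async false

namespace Cfsg.Agent.Fus.Transv.EnumH

open Cfsg.Agent.Spor.Cos

theorem logH_final14 : allBlock logH.chkFinal 174930 512 14 = true := by decide +kernel

theorem logH_final15 : allBlock logH.chkFinal 174930 512 15 = true := by decide +kernel

theorem logH_final16 : allBlock logH.chkFinal 174930 512 16 = true := by decide +kernel

theorem logH_final17 : allBlock logH.chkFinal 174930 512 17 = true := by decide +kernel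

theorem logH_final18 : allBlock logH.chkFinal 174930 512 18 = true := by decide +kernel

theorem logH_final19 : allBlock logH.chkFinal 174930 512 19 = true := by decide +kernel

theorem logH_final20 : allBlock logH.chkFinal 174930 512 20 = true := by decide +kernel

theorem logH_final21 : allBlock logH.chkFinal 174930 512 21 = true := by decide +kernel

theorem logH_final22 : allBlock logH.chkFinal 174930 512 22 = true := by decide +kernel

theorem logH_final23 : allBlock logH.chkFinal 174930 512 23 = true := by decide +kernel

theorem logH_final24 : allBlock logH.chkFinal 174930 512 24 = true := by decide +kernel

theorem logH_final25 : allBlock logH.chkFinal 174930 512 25 = true := by decide +kernel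

theorem logH_final26 : allBlock logH.chkFinal 174930 512 26 = true := by decide +kernel

theorem logH_final27 : allBlock logH.chkFinal 174930 512 27 = true := by decide +kernel

end Cfsg.Agent.Fus.Transv.EnumH
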