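import Cfsg.Agent.Lib.Fus.Transv.EnumH.LogHData

/-! Checks of a coset enumeration. -/

set_option autoImplicit false
set_option maxRecDepth 100000
set_option maxHeartbeats 4000000
set_option Elab.async false

namespace Cfsg.Agent.Fus.Transv.EnumH

open Cfsg.Agent.Spor.Cos

theorem logH_final140 : allBlock logH.chkFinal 174930 512 140 = true := by decide +kernel

theorem logH_final141 : allBlock logH.chkFinal 174930 512 141 = true := by decide +kernel

theorem logH_final142 : allBlock logH.chkFinal 174930 512 142 = true := by decide +kernel

theorem logH_final143 : allBlock logH.chkFinal 174930 512 143 = true := by decide +kernel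

theorem logH_final144 : allBlock logH.chkFinal 174930 512 144 = true := by decide +kernel

theorem logH_final145 : allBlock logH.chkFinal 174930 512 145 = true := by decide +kernel

theorem logH_final146 : allBlock logH.chkFinal 174930 512 146 = true := by decide +kernel

theorem logH_final147 : allBlock logH.chkFinal 174930 512 147 = true := by decide +kernel

theorem logH_final148 : allBlock logH.chkFinal 174930 512 148 = true := by decide +kernel

theorem logH_final149 : allBlock logH.chkFinal 174930 512 149 = true := by decide +kernel

theorem logH_final150 : allBlock logH.chkFinal 174930 512 150 = true := by decide +kernel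

theorem logH_final151 : allBlock logH.chkFinal 174930 512 151 = true := by decide +kernel

theorem logH_final152 : allBlock logH.chkFinal 174930 512 152 = true := by decide +kernel

theorem logH_final153 : allBlock logH.chkFinal 174930 512 153 = true := by decide +kernel

end Cfsg.Agent.Fus.Transv.EnumH
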