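import Cfsg.Agent.Lib.Fus.Transv.EnumH.LogHData

/-! Checks of a coset enumeration. -/

set_option autoImplicit false
set_option maxRecDepth 100000
set_option maxHeartbeats 4000000
set_option Elab.async false

namespace Cfsg.Agent.Fus.Transv.EnumH

open Cfsg.Agent.Spor.Cos

theorem logH_final154 : allBlock logH.chkFinal 174930 512 154 = true := by decide +kernel

theorem logH_final155 : allBlock logH.chkFinal 174930 512 155 = true := by decide +kernel

theorem logH_final156 : allBlock logH.chkFinal 174930 512 156 = true := by decide +kernel

theorem logH_final157 : allBlock logH.chkFinal 174930 512 157 = true := by decide +kernel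

theorem logH_final158 : allBlock logH.chkFinal 174930 512 158 = true := by decide +kernel

theorem logH_final159 : allBlock logH.chkFinal 174930 512 159 = true := by decide +kernel

theorem logH_final160 : allBlock logH.chkFinal 174930 512 160 = true := by decide +kernel

theorem logH_final161 : allBlock logH.chkFinal 174930 512 161 = true := by decide +kernel

theorem logH_final162 : allBlock logH.chkFinal 174930 512 162 = true := by decide +kernel

theorem logH_final163 : allBlock logH.chkFinal 174930 512 163 = true := by decide +kernel

theorem logH_final164 : allBlock logH.chkFinal 174930 512 164 = true := by decide +kernel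

theorem logH_final165 : allBlock logH.chkFinal 174930 512 165 = true := by decide +kernel

theorem logH_final166 : allBlock logH.chkFinal 174930 512 166 = true := by decide +kernel

theorem logH_final167 : allBlock logH.chkFinal 174930 512 167 = true := by decide +kernel

end Cfsg.Agent.Fus.Transv.EnumH
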