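import Cfsg.Agent.Lib.Fus.Transv.EnumH.LogHData

/-! Checks of a coset enumeration. -/

set_option autoImplicit false
set_option maxRecDepth 100000
set_option maxHeartbeats 4000000
set_option Elab.async false

namespace Cfsg.Agent.Fus.Transv.EnumH

open Cfsg.Agent.Spor.Cos

theorem logH_final182 : allBlock logH.chkFinal 174930 512 182 = true := by decide +kernel

theorem logH_final183 : allBlock logH.chkFinal 174930 512 183 = true := by decide +kernel

theorem logH_final184 : allBlock logH.chkFinal 174930 512 184 = true := by decide +kernel

theorem logH_final185 : allBlock logH.chkFinal 174930 512 185 = true := by decide +kernel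

theorem logH_final186 : allBlock logH.chkFinal 174930 512 186 = true := by decide +kernel

theorem logH_final187 : allBlock logH.chkFinal 174930 512 187 = true := by decide +kernel

theorem logH_final188 : allBlock logH.chkFinal 174930 512 188 = true := by decide +kernel

theorem logH_final189 : allBlock logH.chkFinal 174930 512 189 = true := by decide +kernel

theorem logH_final190 : allBlock logH.chkFinal 174930 512 190 = true := by decide +kernel

theorem logH_final191 : allBlock logH.chkFinal 174930 512 191 = true := by decide +kernel

theorem logH_final192 : allBlock logH.chkFinal 174930 512 192 = true := by decide +kernel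

theorem logH_final193 : allBlock logH.chkFinal 174930 512 193 = true := by decide +kernel

theorem logH_final194 : allBlock logH.chkFinal 174930 512 194 = true := by decide +kernel

theorem logH_final195 : allBlock logH.chkFinal 174930 512 195 = true := by decide +kernel

end Cfsg.Agent.Fus.Transv.EnumH
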