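import Cfsg.Agent.Lib.Fus.Transv.EnumH.LogHData

/-! Checks of a coset enumeration. -/

set_option autoImplicit false
set_option maxRecDepth 100000
set_option maxHeartbeats 4000000
set_option Elab.async false

namespace Cfsg.Agent.Fus.Transv.EnumH

open Cfsg.Agent.Spor.Cos

theorem logH_final196 : allBlock logH.chkFinal 174930 512 196 = true := by decide +kernel

theorem logH_final197 : allBlock logH.chkFinal 174930 512 197 = true := by decide +kernel

theorem logH_final198 : allBlock logH.chkFinal 174930 512 198 = true := by decide +kernel

theorem logH_final199 : allBlock logH.chkFinal 174930 512 199 = true := by decide +kernel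

theorem logH_final200 : allBlock logH.chkFinal 174930 512 200 = true := by decide +kernel

theorem logH_final201 : allBlock logH.chkFinal 174930 512 201 = true := by decide +kernel

theorem logH_final202 : allBlock logH.chkFinal 174930 512 202 = true := by decide +kernel

theorem logH_final203 : allBlock logH.chkFinal 174930 512 203 = true := by decide +kernel

theorem logH_final204 : allBlock logH.chkFinal 174930 512 204 = true := by decide +kernel

theorem logH_final205 : allBlock logH.chkFinal 174930 512 205 = true := by decide +kernel

theorem logH_final206 : allBlock logH.chkFinal 174930 512 206 = true := by decide +kernel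

theorem logH_final207 : allBlock logH.chkFinal 174930 512 207 = true := by decide +kernel

theorem logH_final208 : allBlock logH.chkFinal 174930 512 208 = true := by decide +kernel

theorem logH_final209 : allBlock logH.chkFinal 174930 512 209 = true := by decide +kernel

end Cfsg.Agent.Fus.Transv.EnumH
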