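import Cfsg.Agent.Lib.Fus.Transv.EnumH.LogHData

/-! Checks of a coset enumeration. -/

set_option autoImplicit false
set_option maxRecDepth 100000
set_option maxHeartbeats 4000000
set_option Elab.async false

namespace Cfsg.Agent.Fus.Transv.EnumH

open Cfsg.Agent.Spor.Cos

theorem logH_final210 : allBlock logH.chkFinal 174930 512 210 = true := by decide +kernel

theorem logH_final211 : allBlock logH.chkFinal 174930 512 211 = true := by decide +kernel

theorem logH_final212 : allBlock logH.chkFinal 174930 512 212 = true := by decide +kernel

theorem logH_final213 : allBlock logH.chkFinal 174930 512 213 = true := by decide +kernel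

theorem logH_final214 : allBlock logH.chkFinal 174930 512 214 = true := by decide +kernel

theorem logH_final215 : allBlock logH.chkFinal 174930 512 215 = true := by decide +kernel

theorem logH_final216 : allBlock logH.chkFinal 174930 512 216 = true := by decide +kernel

theorem logH_final217 : allBlock logH.chkFinal 174930 512 217 = true := by decide +kernel

theorem logH_final218 : allBlock logH.chkFinal 174930 512 218 = true := by decide +kernel

theorem logH_final219 : allBlock logH.chkFinal 174930 512 219 = true := by decide +kernel

theorem logH_final220 : allBlock logH.chkFinal 174930 512 220 = true := by decide +kernel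

theorem logH_final221 : allBlock logH.chkFinal 174930 512 221 = true := by decide +kernel

theorem logH_final222 : allBlock logH.chkFinal 174930 512 222 = true := by decide +kernel

theorem logH_final223 : allBlock logH.chkFinal 174930 512 223 = true := by decide +kernel

end Cfsg.Agent.Fus.Transv.EnumH
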