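import Cfsg.Agent.Lib.Fus.Transv.EnumH.LogHData

/-! Checks of a coset enumeration. -/

set_option autoImplicit false
set_option maxRecDepth 100000
set_option maxHeartbeats 4000000
set_option Elab.async false

namespace Cfsg.Agent.Fus.Transv.EnumH

open Cfsg.Agent.Spor.Cos

theorem logH_final224 : allBlock logH.chkFinal 174930 512 224 = true := by decide +kernel

theorem logH_final225 : allBlock logH.chkFinal 174930 512 225 = true := by decide +kernel

theorem logH_final226 : allBlock logH.chkFinal 174930 512 226 = true := by decide +kernel

theorem logH_final227 : allBlock logH.chkFinal 174930 512 227 = true := by decide +kernel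

theorem logH_final228 : allBlock logH.chkFinal 174930 512 228 = true := by decide +kernel

theorem logH_final229 : allBlock logH.chkFinal 174930 512 229 = true := by decide +kernel

theorem logH_final230 : allBlock logH.chkFinal 174930 512 230 = true := by decide +kernel

theorem logH_final231 : allBlock logH.chkFinal 174930 512 231 = true := by decide +kernel

theorem logH_final232 : allBlock logH.chkFinal 174930 512 232 = true := by decide +kernel

theorem logH_final233 : allBlock logH.chkFinal 174930 512 233 = true := by decide +kernel

theorem logH_final234 : allBlock logH.chkFinal 174930 512 234 = true := by decide +kernel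

theorem logH_final235 : allBlock logH.chkFinal 174930 512 235 = true := by decide +kernel

theorem logH_final236 : allBlock logH.chkFinal 174930 512 236 = true := by decide +kernel

theorem logH_final237 : allBlock logH.chkFinal 174930 512 237 = true := by decide +kernel

end Cfsg.Agent.Fus.Transv.EnumH
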