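import Cfsg.Agent.Lib.Fus.Transv.EnumH.LogHData

/-! Checks of a coset enumeration. -/

set_option autoImplicit false
set_option maxRecDepth 100000
set_option maxHeartbeats 4000000
set_option Elab.async false

namespace Cfsg.Agent.Fus.Transv.EnumH

open Cfsg.Agent.Spor.Cos

theorem logH_final238 : allBlock logH.chkFinal 174930 512 238 = true := by decide +kernel

theorem logH_final239 : allBlock logH.chkFinal 174930 512 239 = true := by decide +kernel

theorem logH_final240 : allBlock logH.chkFinal 174930 512 240 = true := by decide +kernel

theorem logH_final241 : allBlock logH.chkFinal 174930 512 241 = true := by decide +kernel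

theorem logH_final242 : allBlock logH.chkFinal 174930 512 242 = true := by decide +kernel

theorem logH_final243 : allBlock logH.chkFinal 174930 512 243 = true := by decide +kernel

theorem logH_final244 : allBlock logH.chkFinal 174930 512 244 = true := by decide +kernel

theorem logH_final245 : allBlock logH.chkFinal 174930 512 245 = true := by decide +kernel

theorem logH_final246 : allBlock logH.chkFinal 174930 512 246 = true := by decide +kernel

theorem logH_final247 : allBlock logH.chkFinal 174930 512 247 = true := by decide +kernel

theorem logH_final248 : allBlock logH.chkFinal 174930 512 248 = true := by decide +kernel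

theorem logH_final249 : allBlock logH.chkFinal 174930 512 249 = true := by decide +kernel

theorem logH_final250 : allBlock logH.chkFinal 174930 512 250 = true := by decide +kernel

theorem logH_final251 : allBlock logH.chkFinal 174930 512 251 = true := by decide +kernel

end Cfsg.Agent.Fus.Transv.EnumH
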