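import Cfsg.Agent.Lib.Fus.Transv.EnumH.LogHData

/-! Checks of a coset enumeration. -/

set_option autoImplicit false
set_option maxRecDepth 100000
set_option maxHeartbeats 4000000
set_option Elab.async false

namespace Cfsg.Agent.Fus.Transv.EnumH

open Cfsg.Agent.Spor.Cos

theorem logH_final252 : allBlock logH.chkFinal 174930 512 252 = true := by decide +kernel

theorem logH_final253 : allBlock logH.chkFinal 174930 512 253 = true := by decide +kernel

theorem logH_final254 : allBlock logH.chkFinal 174930 512 254 = true := by decide +kernel

theorem logH_final255 : allBlock logH.chkFinal 174930 512 255 = true := by decide +kernel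

theorem logH_final256 : allBlock logH.chkFinal 174930 512 256 = true := by decide +kernel

theorem logH_final257 : allBlock logH.chkFinal 174930 512 257 = true := by decide +kernel

theorem logH_final258 : allBlock logH.chkFinal 174930 512 258 = true := by decide +kernel

theorem logH_final259 : allBlock logH.chkFinal 174930 512 259 = true := by decide +kernel

theorem logH_final260 : allBlock logH.chkFinal 174930 512 260 = true := by decide +kernel

theorem logH_final261 : allBlock logH.chkFinal 174930 512 261 = true := by decide +kernel

theorem logH_final262 : allBlock logH.chkFinal 174930 512 262 = true := by decide +kernel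

theorem logH_final263 : allBlock logH.chkFinal 174930 512 263 = true := by decide +kernel

theorem logH_final264 : allBlock logH.chkFinal 174930 512 264 = true := by decide +kernel

theorem logH_final265 : allBlock logH.chkFinal 174930 512 265 = true := by decide +kernel

end Cfsg.Agent.Fus.Transv.EnumH
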