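import Cfsg.Agent.Lib.Fus.Transv.EnumH.LogHData

/-! Checks of a coset enumeration. -/

set_option autoImplicit false
set_option maxRecDepth 100000
set_option maxHeartbeats 4000000
set_option Elab.async false

namespace Cfsg.Agent.Fus.Transv.EnumH

open Cfsg.Agent.Spor.Cos

theorem logH_final266 : allBlock logH.chkFinal 174930 512 266 = true := by decide +kernel

theorem logH_final267 : allBlock logH.chkFinal 174930 512 267 = true := by decide +kernel

theorem logH_final268 : allBlock logH.chkFinal 174930 512 268 = true := by decide +kernel

theorem logH_final269 : allBlock logH.chkFinal 174930 512 269 = true := by decide +kernel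

theorem logH_final270 : allBlock logH.chkFinal 174930 512 270 = true := by decide +kernel

theorem logH_final271 : allBlock logH.chkFinal 174930 512 271 = true := by decide +kernel

theorem logH_final272 : allBlock logH.chkFinal 174930 512 272 = true := by decide +kernel

theorem logH_final273 : allBlock logH.chkFinal 174930 512 273 = true := by decide +kernel

theorem logH_final274 : allBlock logH.chkFinal 174930 512 274 = true := by decide +kernel

theorem logH_final275 : allBlock logH.chkFinal 174930 512 275 = true := by decide +kernel

theorem logH_final276 : allBlock logH.chkFinal 174930 512 276 = true := by decide +kernel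

theorem logH_final277 : allBlock logH.chkFinal 174930 512 277 = true := by decide +kernel

theorem logH_final278 : allBlock logH.chkFinal 174930 512 278 = true := by decide +kernel

theorem logH_final279 : allBlock logH.chkFinal 174930 512 279 = true := by decide +kernel

end Cfsg.Agent.Fus.Transv.EnumH
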