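import Cfsg.Agent.Lib.Fus.Transv.EnumH.LogHData

/-! Checks of a coset enumeration. -/

set_option autoImplicit false
set_option maxRecDepth 100000
set_option maxHeartbeats 4000000
set_option Elab.async false

namespace Cfsg.Agent.Fus.Transv.EnumH

open Cfsg.Agent.Spor.Cos

theorem logH_final280 : allBlock logH.chkFinal 174930 512 280 = true := by decide +kernel

theorem logH_final281 : allBlock logH.chkFinal 174930 512 281 = true := by decide +kernel

theorem logH_final282 : allBlock logH.chkFinal 174930 512 282 = true := by decide +kernel

theorem logH_final283 : allBlock logH.chkFinal 174930 512 283 = true := by decide +kernel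

theorem logH_final284 : allBlock logH.chkFinal 174930 512 284 = true := by decide +kernel

theorem logH_final285 : allBlock logH.chkFinal 174930 512 285 = true := by decide +kernel

theorem logH_final286 : allBlock logH.chkFinal 174930 512 286 = true := by decide +kernel

theorem logH_final287 : allBlock logH.chkFinal 174930 512 287 = true := by decide +kernel

theorem logH_final288 : allBlock logH.chkFinal 174930 512 288 = true := by decide +kernel

theorem logH_final289 : allBlock logH.chkFinal 174930 512 289 = true := by decide +kernel

theorem logH_final290 : allBlock logH.chkFinal 174930 512 290 = true := by decide +kernel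

theorem logH_final291 : allBlock logH.chkFinal 174930 512 291 = true := by decide +kernel

theorem logH_final292 : allBlock logH.chkFinal 174930 512 292 = true := by decide +kernel

theorem logH_final293 : allBlock logH.chkFinal 174930 512 293 = true := by decide +kernel

end Cfsg.Agent.Fus.Transv.EnumH
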