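import Cfsg.Agent.Lib.Fus.Transv.EnumH.LogHData

/-! Checks of a coset enumeration. -/

set_option autoImplicit false
set_option maxRecDepth 100000
set_option maxHeartbeats 4000000
set_option Elab.async false

namespace Cfsg.Agent.Fus.Transv.EnumH

open Cfsg.Agent.Spor.Cos

theorem logH_final294 : allBlock logH.chkFinal 174930 512 294 = true := by decide +kernel

theorem logH_final295 : allBlock logH.chkFinal 174930 512 295 = true := by decide +kernel

theorem logH_final296 : allBlock logH.chkFinal 174930 512 296 = true := by decide +kernel

theorem logH_final297 : allBlock logH.chkFinal 174930 512 297 = true := by decide +kernel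

theorem logH_final298 : allBlock logH.chkFinal 174930 512 298 = true := by decide +kernel

theorem logH_final299 : allBlock logH.chkFinal 174930 512 299 = true := by decide +kernel

theorem logH_final300 : allBlock logH.chkFinal 174930 512 300 = true := by decide +kernel

theorem logH_final301 : allBlock logH.chkFinal 174930 512 301 = true := by decide +kernel

theorem logH_final302 : allBlock logH.chkFinal 174930 512 302 = true := by decide +kernel

theorem logH_final303 : allBlock logH.chkFinal 174930 512 303 = true := by decide +kernel

theorem logH_final304 : allBlock logH.chkFinal 174930 512 304 = true := by decide +kernel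

theorem logH_final305 : allBlock logH.chkFinal 174930 512 305 = true := by decide +kernel

theorem logH_final306 : allBlock logH.chkFinal 174930 512 306 = true := by decide +kernel

theorem logH_final307 : allBlock logH.chkFinal 174930 512 307 = true := by decide +kernel

end Cfsg.Agent.Fus.Transv.EnumH
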