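import Cfsg.Agent.Lib.Fus.Transv.EnumH.LogHData

/-! Checks of a coset enumeration. -/

set_option autoImplicit false
set_option maxRecDepth 100000
set_option maxHeartbeats 4000000
set_option Elab.async false

namespace Cfsg.Agent.Fus.Transv.EnumH

open Cfsg.Agent.Spor.Cos

theorem logH_final308 : allBlock logH.chkFinal 174930 512 308 = true := by decide +kernel

theorem logH_final309 : allBlock logH.chkFinal 174930 512 309 = true := by decide +kernel

theorem logH_final310 : allBlock logH.chkFinal 174930 512 310 = true := by decide +kernel

theorem logH_final311 : allBlock logH.chkFinal 174930 512 311 = true := by decide +kernel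

theorem logH_final312 : allBlock logH.chkFinal 174930 512 312 = true := by decide +kernel

theorem logH_final313 : allBlock logH.chkFinal 174930 512 313 = true := by decide +kernel

theorem logH_final314 : allBlock logH.chkFinal 174930 512 314 = true := by decide +kernel

theorem logH_final315 : allBlock logH.chkFinal 174930 512 315 = true := by decide +kernel

theorem logH_final316 : allBlock logH.chkFinal 174930 512 316 = true := by decide +kernel

theorem logH_final317 : allBlock logH.chkFinal 174930 512 317 = true := by decide +kernel

theorem logH_final318 : allBlock logH.chkFinal 174930 512 318 = true := by decide +kernel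

theorem logH_final319 : allBlock logH.chkFinal 174930 512 319 = true := by decide +kernel

theorem logH_final320 : allBlock logH.chkFinal 174930 512 320 = true := by decide +kernel

theorem logH_final321 : allBlock logH.chkFinal 174930 512 321 = true := by decide +kernel

end Cfsg.Agent.Fus.Transv.EnumH
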