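import Cfsg.Agent.Lib.Fus.Transv.EnumH.LogHData

/-! Checks of a coset enumeration. -/

set_option autoImplicit false
set_option maxRecDepth 100000
set_option maxHeartbeats 4000000
set_option Elab.async false

namespace Cfsg.Agent.Fus.Transv.EnumH

open Cfsg.Agent.Spor.Cos

theorem logH_final322 : allBlock logH.chkFinal 174930 512 322 = true := by decide +kernel

theorem logH_final323 : allBlock logH.chkFinal 174930 512 323 = true := by decide +kernel

theorem logH_final324 : allBlock logH.chkFinal 174930 512 324 = true := by decide +kernel

theorem logH_final325 : allBlock logH.chkFinal 174930 512 325 = true := by decide +kernel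

theorem logH_final326 : allBlock logH.chkFinal 174930 512 326 = true := by decide +kernel

theorem logH_final327 : allBlock logH.chkFinal 174930 512 327 = true := by decide +kernel

theorem logH_final328 : allBlock logH.chkFinal 174930 512 328 = true := by decide +kernel

theorem logH_final329 : allBlock logH.chkFinal 174930 512 329 = true := by decide +kernel

theorem logH_final330 : allBlock logH.chkFinal 174930 512 330 = true := by decide +kernel

theorem logH_final331 : allBlock logH.chkFinal 174930 512 331 = true := by decide +kernel

theorem logH_final332 : allBlock logH.chkFinal 174930 512 332 = true := by decide +kernel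

theorem logH_final333 : allBlock logH.chkFinal 174930 512 333 = true := by decide +kernel

theorem logH_final334 : allBlock logH.chkFinal 174930 512 334 = true := by decide +kernel

theorem logH_final335 : allBlock logH.chkFinal 174930 512 335 = true := by decide +kernel

end Cfsg.Agent.Fus.Transv.EnumH
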