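import Cfsg.Agent.Lib.Fus.Transv.EnumH.LogHData

/-! Checks of a coset enumeration. -/

set_option autoImplicit false
set_option maxRecDepth 100000
set_option maxHeartbeats 4000000
set_option Elab.async false

namespace Cfsg.Agent.Fus.Transv.EnumH

open Cfsg.Agent.Spor.Cos

theorem logH_final84 : allBlock logH.chkFinal 174930 512 84 = true := by decide +kernel

theorem logH_final85 : allBlock logH.chkFinal 174930 512 85 = true := by decide +kernel

theorem logH_final86 : allBlock logH.chkFinal 174930 512 86 = true := by decide +kernel

theorem logH_final87 : allBlock logH.chkFinal 174930 512 87 = true := by decide +kernel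

theorem logH_final88 : allBlock logH.chkFinal 174930 512 88 = true := by decide +kernel

theorem logH_final89 : allBlock logH.chkFinal 174930 512 89 = true := by decide +kernel

theorem logH_final90 : allBlock logH.chkFinal 174930 512 90 = true := by decide +kernel

theorem logH_final91 : allBlock logH.chkFinal 174930 512 91 = true := by decide +kernel

theorem logH_final92 : allBlock logH.chkFinal 174930 512 92 = true := by decide +kernel

theorem logH_final93 : allBlock logH.chkFinal 174930 512 93 = true := by decide +kernel

theorem logH_final94 : allBlock logH.chkFinal 174930 512 94 = true := by decide +kernel

theorem logH_final95 : allBlock logH.chkFinal 174930 512 95 = true := by decide +kernel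

theorem logH_final96 : allBlock logH.chkFinal 174930 512 96 = true := by decide +kernel

theorem logH_final97 : allBlock logH.chkFinal 174930 512 97 = true := by decide +kernel

end Cfsg.Agent.Fus.Transv.EnumH
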