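import Cfsg.Agent.Lib.Fus.Transv.EnumH.LogHData

/-! Checks of a coset enumeration. -/

set_option autoImplicit false
set_option maxRecDepth 100000
set_option maxHeartbeats 4000000
set_option Elab.async false

namespace Cfsg.Agent.Fus.Transv.EnumH

open Cfsg.Agent.Spor.Cos

theorem logH_final112 : allBlock logH.chkFinal 174930 512 112 = true := by decide +kernel

theorem logH_final113 : allBlock logH.chkFinal 174930 512 113 = true := by decide +kernel

theorem logH_final114 : allBlock logH.chkFinal 174930 512 114 = true := by decide +kernel

theorem logH_final115 : allBlock logH.chkFinal 174930 512 115 = true := by decide +kernel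

theorem logH_final116 : allBlock logH.chkFinal 174930 512 116 = true := by decide +kernel

theorem logH_final117 : allBlock logH.chkFinal 174930 512 117 = true := by decide +kernel

theorem logH_final118 : allBlock logH.chkFinal 174930 512 118 = true := by decide +kernel

theorem logH_final119 : allBlock logH.chkFinal 174930 512 119 = true := by decide +kernel

theorem logH_final120 : allBlock logH.chkFinal 174930 512 120 = true := by decide +kernel

theorem logH_final121 : allBlock logH.chkFinal 174930 512 121 = true := by decide +kernel

theorem logH_final122 : allBlock logH.chkFinal 174930 512 122 = true := by decide +kernel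

theorem logH_final123 : allBlock logH.chkFinal 174930 512 123 = true := by decide +kernel

theorem logH_final124 : allBlock logH.chkFinal 174930 512 124 = true := by decide +kernel

theorem logH_final125 : allBlock logH.chkFinal 174930 512 125 = true := by decide +kernel

end Cfsg.Agent.Fus.Transv.EnumH
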