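import Cfsg.Agent.Lib.Fus.Transv.EnumH.LogHData

/-! Checks of a coset enumeration. -/

set_option autoImplicit false
set_option maxRecDepth 100000
set_option maxHeartbeats 4000000
set_option Elab.async false

namespace Cfsg.Agent.Fus.Transv.EnumH

open Cfsg.Agent.Spor.Cos

theorem logH_final126 : allBlock logH.chkFinal 174930 512 126 = true := by decide +kernel

theorem logH_final127 : allBlock logH.chkFinal 174930 512 127 = true := by decide +kernel

theorem logH_final128 : allBlock logH.chkFinal 174930 512 128 = true := by decide +kernel

theorem logH_final129 : allBlock logH.chkFinal 174930 512 129 = true := by decide +kernel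

theorem logH_final130 : allBlock logH.chkFinal 174930 512 130 = true := by decide +kernel

theorem logH_final131 : allBlock logH.chkFinal 174930 512 131 = true := by decide +kernel

theorem logH_final132 : allBlock logH.chkFinal 174930 512 132 = true := by decide +kernel

theorem logH_final133 : allBlock logH.chkFinal 174930 512 133 = true := by decide +kernel

theorem logH_final134 : allBlock logH.chkFinal 174930 512 134 = true := by decide +kernel

theorem logH_final135 : allBlock logH.chkFinal 174930 512 135 = true := by decide +kernel

theorem logH_final136 : allBlock logH.chkFinal 174930 512 136 = true := by decide +kernel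

theorem logH_final137 : allBlock logH.chkFinal 174930 512 137 = true := by decide +kernel

theorem logH_final138 : allBlock logH.chkFinal 174930 512 138 = true := by decide +kernel

theorem logH_final139 : allBlock logH.chkFinal 174930 512 139 = true := by decide +kernel

end Cfsg.Agent.Fus.Transv.EnumH
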