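import Cfsg.Agent.Lib.Fus.Transv.Derived
import Cfsg.Agent.Lib.Fus.Transv.EnumH.LogHPart0
import Cfsg.Agent.Lib.Fus.Transv.EnumH.LogHPart1
import Cfsg.Agent.Lib.Fus.Transv.EnumH.LogHPart2
import Cfsg.Agent.Lib.Fus.Transv.EnumH.LogHPart3
import Cfsg.Agent.Lib.Fus.Transv.EnumH.LogHPart4
import Cfsg.Agent.Lib.Fus.Transv.EnumH.LogHPart5
import Cfsg.Agent.Lib.Fus.Transv.EnumH.LogHPart6
import Cfsg.Agent.Lib.Fus.Transv.EnumH.LogHPart7
import Cfsg.Agent.Lib.Fus.Transv.EnumH.LogHPart8
import Cfsg.Agent.Lib.Fus.Transv.EnumH.LogHPart9
import Cfsg.Agent.Lib.Fus.Transv.EnumH.LogHPart10
import Cfsg.Agent.Lib.Fus.Transv.EnumH.LogHPart11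
import Cfsg.Agent.Lib.Fus.Transv.EnumH.LogHPart12
import Cfsg.Agent.Lib.Fus.Transv.EnumH.LogHPart13
import Cfsg.Agent.Lib.Fus.Transv.EnumH.LogHPart14
import Cfsg.Agent.Lib.Fus.Transv.EnumH.LogHPart15
import Cfsg.Agent.Lib.Fus.Transv.EnumH.LogHPart16
import Cfsg.Agent.Lib.Fus.Transv.EnumH.LogHPart17
import Cfsg.Agent.Lib.Fus.Transv.EnumH.LogHPart18
import Cfsg.Agent.Lib.Fus.Transv.EnumH.LogHPart19
import Cfsg.Agent.Lib.Fus.Transv.EnumH.LogHPart20
import Cfsg.Agent.Lib.Fus.Transv.EnumH.LogHDef0
import Cfsg.Agent.Lib.Fus.Transv.EnumH.LogHDef1
import Cfsg.Agent.Lib.Fus.Transv.EnumH.LogHDef2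
import Cfsg.Agent.Lib.Fus.Transv.EnumH.LogHDef3
import Cfsg.Agent.Lib.Fus.Transv.EnumH.LogHDef4
import Cfsg.Agent.Lib.Fus.Transv.EnumH.LogHDef5
import Cfsg.Agent.Lib.Fus.Transv.EnumH.LogHDef6
import Cfsg.Agent.Lib.Fus.Transv.EnumH.LogHDef7
import Cfsg.Agent.Lib.Fus.Transv.EnumH.LogHDef8
import Cfsg.Agent.Lib.Fus.Transv.EnumH.LogHDef9
import Cfsg.Agent.Lib.Fus.Transv.EnumH.LogHDef10
import Cfsg.Agent.Lib.Fus.Transv.EnumH.LogHDef11
import Cfsg.Agent.Lib.Fus.Transv.EnumH.LogHDef12
import Cfsg.Agent.Lib.Fus.Transv.EnumH.LogHDef13
import Cfsg.Agent.Lib.Fus.Transv.EnumH.LogHDef14
import Cfsg.Agent.Lib.Fus.Transv.EnumH.LogHFinal0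
import Cfsg.Agent.Lib.Fus.Transv.EnumH.LogHFinal1
import Cfsg.Agent.Lib.Fus.Transv.EnumH.LogHFinal2
import Cfsg.Agent.Lib.Fus.Transv.EnumH.LogHFinal3
import Cfsg.Agent.Lib.Fus.Transv.EnumH.LogHFinal4
import Cfsg.Agent.Lib.Fus.Transv.EnumH.LogHFinal5
import Cfsg.Agent.Lib.Fus.Transv.EnumH.LogHFinal6
import Cfsg.Agent.Lib.Fus.Transv.EnumH.LogHFinal7
import Cfsg.Agent.Lib.Fus.Transv.EnumH.LogHFinal8
import Cfsg.Agent.Lib.Fus.Transv.EnumH.LogHFinal9
import Cfsg.Agent.Lib.Fus.Transv.EnumH.LogHFinal10
import Cfsg.Agent.Lib.Fus.Transv.EnumH.LogHFinal11
import Cfsg.Agent.Lib.Fus.Transv.EnumH.LogHFinal12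
import Cfsg.Agent.Lib.Fus.Transv.EnumH.LogHFinal13
import Cfsg.Agent.Lib.Fus.Transv.EnumH.LogHFinal14
import Cfsg.Agent.Lib.Fus.Transv.EnumH.LogHFinal15
import Cfsg.Agent.Lib.Fus.Transv.EnumH.LogHFinal16
import Cfsg.Agent.Lib.Fus.Transv.EnumH.LogHFinal17
import Cfsg.Agent.Lib.Fus.Transv.EnumH.LogHFinal18
import Cfsg.Agent.Lib.Fus.Transv.EnumH.LogHFinal19
import Cfsg.Agent.Lib.Fus.Transv.EnumH.LogHFinal20
import Cfsg.Agent.Lib.Fus.Transv.EnumH.LogHFinal21
import Cfsg.Agent.Lib.Fus.Transv.EnumH.LogHFinal22
import Cfsg.Agent.Lib.Fus.Transv.EnumH.LogHFinal23
import Cfsg.Agent.Lib.Fus.Transv.EnumH.LogHFinal24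

/-! A checked coset enumeration. -/

set_option autoImplicit false
set_option maxRecDepth 100000
set_option maxHeartbeats 4000000
set_option Elab.async false

namespace Cfsg.Agent.Fus.Transv.EnumH

open Cfsg.Agent.Spor.Cos

theorem logH_defs : ∀ i, i + 1 < logH.M → logH.chkDef i = true := by
  intro i hi
  change i + 1 < 106903 at hi
  refine of_allBlock (n := 106902) (size := 512) (by decide) (fun j hj => ?_) (by omega)
  have hj' : j < 209 := by omega
  interval_cases j
  · exact logH_def0
  · exact logH_def1
  · exact logH_def2
  · exact logH_def3
  · exact logH_def4
  · exact logH_def5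
  · exact logH_def6
  · exact logH_def7
  · exact logH_def8
  · exact logH_def9
  · exact logH_def10
  · exact logH_def11
  · exact logH_def12
  · exact logH_def13
  · exact logH_def14
  · exact logH_def15
  · exact logH_def16
  · exact logH_def17
  · exact logH_def18
  · exact logH_def19
  · exact logH_def20
  · exact logH_def21
  · exact logH_def22
  · exact logH_def23
  · exact logH_def24
  · exact logH_def25
  · exact logH_def26
  · exact logH_def27
  · exact logH_def28
  · exact logH_def29
  · exact logH_def30
  · exact logH_def31
  · exact logH_def32
  · exact logH_def33
  · exact logH_def34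
  · exact logH_def35
  · exact logH_def36
  · exact logH_def37
  · exact logH_def38
  · exact logH_def39
  · exact logH_def40
  · exact logH_def41
  · exact logH_def42
  · exact logH_def43
  · exact logH_def44
  · exact logH_def45
  · exact logH_def46
  · exact logH_def47
  · exact logH_def48
  · exact logH_def49
  · exact logH_def50
  · exact logH_def51
  · exact logH_def52
  · exact logH_def53
  · exact logH_def54
  · exact logH_def55
  · exact logH_def56
  · exact logH_def57
  · exact logH_def58
  · exact logH_def59
  · exact logH_def60
  · exact logH_def61
  · exact logH_def62
  · exact logH_def63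
  · exact logH_def64
  · exact logH_def65
  · exact logH_def66
  · exact logH_def67
  · exact logH_def68
  · exact logH_def69
  · exact logH_def70
  · exact logH_def71
  · exact logH_def72
  · exact logH_def73
  · exact logH_def74
  · exact logH_def75
  · exact logH_def76
  · exact logH_def77
  · exact logH_def78
  · exact logH_def79
  · exact logH_def80
  · exact logH_def81
  · exact logH_def82
  · exact logH_def83
  · exact logH_def84
  · exact logH_def85
  · exact logH_def86
  · exact logH_def87
  · exact logH_def88
  · exact logH_def89
  · exact logH_def90
  · exact logH_def91
  · exact logH_def92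
  · exact logH_def93
  · exact logH_def94
  · exact logH_def95
  · exact logH_def96
  · exact logH_def97
  · exact logH_def98
  · exact logH_def99
  · exact logH_def100
  · exact logH_def101
  · exact logH_def102
  · exact logH_def103
  · exact logH_def104
  · exact logH_def105
  · exact logH_def106
  · exact logH_def107
  · exact logH_def108
  · exact logH_def109
  · exact logH_def110
  · exact logH_def111
  · exact logH_def112
  · exact logH_def113
  · exact logH_def114
  · exact logH_def115
  · exact logH_def116
  · exact logH_def117
  · exact logH_def118
  · exact logH_def119
  · exact logH_def120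
  · exact logH_def121
  · exact logH_def122
  · exact logH_def123
  · exact logH_def124
  · exact logH_def125
  · exact logH_def126
  · exact logH_def127
  · exact logH_def128
  · exact logH_def129
  · exact logH_def130
  · exact logH_def131
  · exact logH_def132
  · exact logH_def133
  · exact logH_def134
  · exact logH_def135
  · exact logH_def136
  · exact logH_def137
  · exact logH_def138
  · exact logH_def139
  · exact logH_def140
  · exact logH_def141
  · exact logH_def142
  · exact logH_def143
  · exact logH_def144
  · exact logH_def145
  · exact logH_def146
  · exact logH_def147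
  · exact logH_def148
  · exact logH_def149
  · exact logH_def150
  · exact logH_def151
  · exact logH_def152
  · exact logH_def153
  · exact logH_def154
  · exact logH_def155
  · exact logH_def156
  · exact logH_def157
  · exact logH_def158
  · exact logH_def159
  · exact logH_def160
  · exact logH_def161
  · exact logH_def162
  · exact logH_def163
  · exact logH_def164
  · exact logH_def165
  · exact logH_def166
  · exact logH_def167
  · exact logH_def168
  · exact logH_def169
  · exact logH_def170
  · exact logH_def171
  · exact logH_def172
  · exact logH_def173
  · exact logH_def174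
  · exact logH_def175
  · exact logH_def176
  · exact logH_def177
  · exact logH_def178
  · exact logH_def179
  · exact logH_def180
  · exact logH_def181
  · exact logH_def182
  · exact logH_def183
  · exact logH_def184
  · exact logH_def185
  · exact logH_def186
  · exact logH_def187
  · exact logH_def188
  · exact logH_def189
  · exact logH_def190
  · exact logH_def191
  · exact logH_def192
  · exact logH_def193
  · exact logH_def194
  · exact logH_def195
  · exact logH_def196
  · exact logH_def197
  · exact logH_def198
  · exact logH_def199
  · exact logH_def200
  · exact logH_def201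
  · exact logH_def202
  · exact logH_def203
  · exact logH_def204
  · exact logH_def205
  · exact logH_def206
  · exact logH_def207
  · exact logH_def208

theorem logH_facts : ∀ i, logH.M ≤ i + 1 → i < logH.nF → ∃ J, logH.chkFact i J = true := by
  exact logH.facts_of_covers (Log.Covers.trans logH (Log.Covers.trans logH (Log.Covers.trans logH (Log.Covers.trans logH (Log.Covers.trans logH (Log.Covers.trans logH (Log.Covers.trans logH (logH.covers_of_part _ _ _ logH_part0) (Log.Covers.trans logH (logH.covers_of_part _ _ _ logH_part1) (logH.covers_of_part _ _ _ logH_part2))) (Log.Covers.trans logH (Log.Covers.trans logH (logH.covers_of_part _ _ _ logH_part3) (logH.covers_of_part _ _ _ logH_part4)) (Log.Covers.trans logH (logH.covers_of_part _ _ _ logH_part5) (logH.covers_of_part _ _ _ logH_part6)))) (Log.Covers.trans logH (Log.Covers.trans logH (Log.Covers.trans logH (logH.covers_of_part _ _ _ logH_part7) (logH.covers_of_part _ _ _ logH_part8)) (Log.Covers.trans logH (logH.covers_of_part _ _ _ logH_part9) (logH.covers_of_part _ _ _ logH_part10))) (Log.Covers.trans logH (Log.Covers.trans logH (logH.covers_of_part _ _ _ logH_part11) (logH.covers_of_part _ _ _ logH_part12))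 (Log.Covers.trans logH (logH.covers_of_part _ _ _ logH_part13) (logH.covers_of_part _ _ _ logH_part14))))) (Log.Covers.trans logH (Log.Covers.trans logH (Log.Covers.trans logH (logH.covers_of_part _ _ _ logH_part15) (Log.Covers.trans logH (logH.covers_of_part _ _ _ logH_part16) (logH.covers_of_part _ _ _ logH_part17))) (Log.Covers.trans logH (Log.Covers.trans logH (logH.covers_of_part _ _ _ logH_part18) (logH.covers_of_part _ _ _ logH_part19)) (Log.Covers.trans logH (logH.covers_of_part _ _ _ logH_part20) (logH.covers_of_part _ _ _ logH_part21)))) (Log.Covers.trans logH (Log.Covers.trans logH (Log.Covers.trans logH (logH.covers_of_part _ _ _ logH_part22) (logH.covers_of_part _ _ _ logH_part23)) (Log.Covers.trans logH (logH.covers_of_part _ _ _ logH_part24) (logH.covers_of_part _ _ _ logH_part25))) (Log.Covers.trans logH (Log.Covers.trans logH (logH.covers_of_part _ _ _ logH_part26) (logH.covers_of_part _ _ _ logH_part27)) (Log.Covers.trans logH (logH.covers_of_part _ _ _ logH_part28) (logH.covers_of_part _ _ _ logH_part29)))))) (Log.Covers.trans logH (Log.Covers.trans logH (Log.Covers.trans logH (Log.Covers.trans logH (logH.covers_of_part _ _ _ logH_part30) (Log.Covers.trans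 logH (logH.covers_of_part _ _ _ logH_part31) (logH.covers_of_part _ _ _ logH_part32))) (Log.Covers.trans logH (Log.Covers.trans logH (logH.covers_of_part _ _ _ logH_part33) (logH.covers_of_part _ _ _ logH_part34)) (Log.Covers.trans logH (logH.covers_of_part _ _ _ logH_part35) (logH.covers_of_part _ _ _ logH_part36)))) (Log.Covers.trans logH (Log.Covers.trans logH (Log.Covers.trans logH (logH.covers_of_part _ _ _ logH_part37) (logH.covers_of_part _ _ _ logH_part38)) (Log.Covers.trans logH (logH.covers_of_part _ _ _ logH_part39) (logH.covers_of_part _ _ _ logH_part40))) (Log.Covers.trans logH (Log.Covers.trans logH (logH.covers_of_part _ _ _ logH_part41) (logH.covers_of_part _ _ _ logH_part42)) (Log.Covers.trans logH (logH.covers_of_part _ _ _ logH_part43) (logH.covers_of_part _ _ _ logH_part44))))) (Log.Covers.trans logH (Log.Covers.trans logH (Log.Covers.trans logH (Log.Covers.trans logH (logH.covers_of_part _ _ _ logH_part45) (logH.covers_of_part _ _ _ logH_part46)) (Log.Covers.trans logH (logH.covers_of_part _ _ _ logH_part47) (logH.covers_of_part _ _ _ logH_part48))) (Log.Covers.trans logH (Log.Covers.trans logH (logH.covers_of_part _ _ _ logH_part49) (logH.covers_of_part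 _ _ _ logH_part50)) (Log.Covers.trans logH (logH.covers_of_part _ _ _ logH_part51) (logH.covers_of_part _ _ _ logH_part52)))) (Log.Covers.trans logH (Log.Covers.trans logH (Log.Covers.trans logH (logH.covers_of_part _ _ _ logH_part53) (logH.covers_of_part _ _ _ logH_part54)) (Log.Covers.trans logH (logH.covers_of_part _ _ _ logH_part55) (logH.covers_of_part _ _ _ logH_part56))) (Log.Covers.trans logH (Log.Covers.trans logH (logH.covers_of_part _ _ _ logH_part57) (logH.covers_of_part _ _ _ logH_part58)) (Log.Covers.trans logH (logH.covers_of_part _ _ _ logH_part59) (logH.covers_of_part _ _ _ logH_part60))))))) (Log.Covers.trans logH (Log.Covers.trans logH (Log.Covers.trans logH (Log.Covers.trans logH (Log.Covers.trans logH (logH.covers_of_part _ _ _ logH_part61) (Log.Covers.trans logH (logH.covers_of_part _ _ _ logH_part62) (logH.covers_of_part _ _ _ logH_part63))) (Log.Covers.trans logH (Log.Covers.trans logH (logH.covers_of_part _ _ _ logH_part64) (logH.covers_of_part _ _ _ logH_part65)) (Log.Covers.trans logH (logH.covers_of_part _ _ _ logH_part66) (logH.covers_of_part _ _ _ logH_part67)))) (Log.Covers.trans logH (Log.Covers.trans logH (Log.Covers.trans logH (logH.covers_of_part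 _ _ _ logH_part68) (logH.covers_of_part _ _ _ logH_part69)) (Log.Covers.trans logH (logH.covers_of_part _ _ _ logH_part70) (logH.covers_of_part _ _ _ logH_part71))) (Log.Covers.trans logH (Log.Covers.trans logH (logH.covers_of_part _ _ _ logH_part72) (logH.covers_of_part _ _ _ logH_part73)) (Log.Covers.trans logH (logH.covers_of_part _ _ _ logH_part74) (logH.covers_of_part _ _ _ logH_part75))))) (Log.Covers.trans logH (Log.Covers.trans logH (Log.Covers.trans logH (logH.covers_of_part _ _ _ logH_part76) (Log.Covers.trans logH (logH.covers_of_part _ _ _ logH_part77) (logH.covers_of_part _ _ _ logH_part78))) (Log.Covers.trans logH (Log.Covers.trans logH (logH.covers_of_part _ _ _ logH_part79) (logH.covers_of_part _ _ _ logH_part80)) (Log.Covers.trans logH (logH.covers_of_part _ _ _ logH_part81) (logH.covers_of_part _ _ _ logH_part82)))) (Log.Covers.trans logH (Log.Covers.trans logH (Log.Covers.trans logH (logH.covers_of_part _ _ _ logH_part83) (logH.covers_of_part _ _ _ logH_part84)) (Log.Covers.trans logH (logH.covers_of_part _ _ _ logH_part85) (logH.covers_of_part _ _ _ logH_part86))) (Log.Covers.trans logH (Log.Covers.trans logH (logH.covers_of_part _ _ _ logH_part87)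 (logH.covers_of_part _ _ _ logH_part88)) (Log.Covers.trans logH (logH.covers_of_part _ _ _ logH_part89) (logH.covers_of_part _ _ _ logH_part90)))))) (Log.Covers.trans logH (Log.Covers.trans logH (Log.Covers.trans logH (Log.Covers.trans logH (logH.covers_of_part _ _ _ logH_part91) (Log.Covers.trans logH (logH.covers_of_part _ _ _ logH_part92) (logH.covers_of_part _ _ _ logH_part93))) (Log.Covers.trans logH (Log.Covers.trans logH (logH.covers_of_part _ _ _ logH_part94) (logH.covers_of_part _ _ _ logH_part95)) (Log.Covers.trans logH (logH.covers_of_part _ _ _ logH_part96) (logH.covers_of_part _ _ _ logH_part97)))) (Log.Covers.trans logH (Log.Covers.trans logH (Log.Covers.trans logH (logH.covers_of_part _ _ _ logH_part98) (logH.covers_of_part _ _ _ logH_part99)) (Log.Covers.trans logH (logH.covers_of_part _ _ _ logH_part100) (logH.covers_of_part _ _ _ logH_part101))) (Log.Covers.trans logH (Log.Covers.trans logH (logH.covers_of_part _ _ _ logH_part102) (logH.covers_of_part _ _ _ logH_part103)) (Log.Covers.trans logH (logH.covers_of_part _ _ _ logH_part104) (logH.covers_of_part _ _ _ logH_part105))))) (Log.Covers.trans logH (Log.Covers.trans logH (Log.Covers.trans logH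 (Log.Covers.trans logH (logH.covers_of_part _ _ _ logH_part106) (logH.covers_of_part _ _ _ logH_part107)) (Log.Covers.trans logH (logH.covers_of_part _ _ _ logH_part108) (logH.covers_of_part _ _ _ logH_part109))) (Log.Covers.trans logH (Log.Covers.trans logH (logH.covers_of_part _ _ _ logH_part110) (logH.covers_of_part _ _ _ logH_part111)) (Log.Covers.trans logH (logH.covers_of_part _ _ _ logH_part112) (logH.covers_of_part _ _ _ logH_part113)))) (Log.Covers.trans logH (Log.Covers.trans logH (Log.Covers.trans logH (logH.covers_of_part _ _ _ logH_part114) (logH.covers_of_part _ _ _ logH_part115)) (Log.Covers.trans logH (logH.covers_of_part _ _ _ logH_part116) (logH.covers_of_part _ _ _ logH_part117))) (Log.Covers.trans logH (Log.Covers.trans logH (logH.covers_of_part _ _ _ logH_part118) (logH.covers_of_part _ _ _ logH_part119)) (Log.Covers.trans logH (logH.covers_of_part _ _ _ logH_part120) (logH.covers_of_part _ _ _ logH_part121)))))))) (Log.Covers.trans logH (Log.Covers.trans logH (Log.Covers.trans logH (Log.Covers.trans logH (Log.Covers.trans logH (Log.Covers.trans logH (logH.covers_of_part _ _ _ logH_part122) (Log.Covers.trans logH (logH.covers_of_part _ _ _ logH_part123)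 (logH.covers_of_part _ _ _ logH_part124))) (Log.Covers.trans logH (Log.Covers.trans logH (logH.covers_of_part _ _ _ logH_part125) (logH.covers_of_part _ _ _ logH_part126)) (Log.Covers.trans logH (logH.covers_of_part _ _ _ logH_part127) (logH.covers_of_part _ _ _ logH_part128)))) (Log.Covers.trans logH (Log.Covers.trans logH (Log.Covers.trans logH (logH.covers_of_part _ _ _ logH_part129) (logH.covers_of_part _ _ _ logH_part130)) (Log.Covers.trans logH (logH.covers_of_part _ _ _ logH_part131) (logH.covers_of_part _ _ _ logH_part132))) (Log.Covers.trans logH (Log.Covers.trans logH (logH.covers_of_part _ _ _ logH_part133) (logH.covers_of_part _ _ _ logH_part134)) (Log.Covers.trans logH (logH.covers_of_part _ _ _ logH_part135) (logH.covers_of_part _ _ _ logH_part136))))) (Log.Covers.trans logH (Log.Covers.trans logH (Log.Covers.trans logH (logH.covers_of_part _ _ _ logH_part137) (Log.Covers.trans logH (logH.covers_of_part _ _ _ logH_part138) (logH.covers_of_part _ _ _ logH_part139))) (Log.Covers.trans logH (Log.Covers.trans logH (logH.covers_of_part _ _ _ logH_part140) (logH.covers_of_part _ _ _ logH_part141)) (Log.Covers.trans logH (logH.covers_of_part _ _ _ logH_part142)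 (logH.covers_of_part _ _ _ logH_part143)))) (Log.Covers.trans logH (Log.Covers.trans logH (Log.Covers.trans logH (logH.covers_of_part _ _ _ logH_part144) (logH.covers_of_part _ _ _ logH_part145)) (Log.Covers.trans logH (logH.covers_of_part _ _ _ logH_part146) (logH.covers_of_part _ _ _ logH_part147))) (Log.Covers.trans logH (Log.Covers.trans logH (logH.covers_of_part _ _ _ logH_part148) (logH.covers_of_part _ _ _ logH_part149)) (Log.Covers.trans logH (logH.covers_of_part _ _ _ logH_part150) (logH.covers_of_part _ _ _ logH_part151)))))) (Log.Covers.trans logH (Log.Covers.trans logH (Log.Covers.trans logH (Log.Covers.trans logH (logH.covers_of_part _ _ _ logH_part152) (Log.Covers.trans logH (logH.covers_of_part _ _ _ logH_part153) (logH.covers_of_part _ _ _ logH_part154))) (Log.Covers.trans logH (Log.Covers.trans logH (logH.covers_of_part _ _ _ logH_part155) (logH.covers_of_part _ _ _ logH_part156)) (Log.Covers.trans logH (logH.covers_of_part _ _ _ logH_part157) (logH.covers_of_part _ _ _ logH_part158)))) (Log.Covers.trans logH (Log.Covers.trans logH (Log.Covers.trans logH (logH.covers_of_part _ _ _ logH_part159) (logH.covers_of_part _ _ _ logH_part160)) (Log.Covers.trans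 logH (logH.covers_of_part _ _ _ logH_part161) (logH.covers_of_part _ _ _ logH_part162))) (Log.Covers.trans logH (Log.Covers.trans logH (logH.covers_of_part _ _ _ logH_part163) (logH.covers_of_part _ _ _ logH_part164)) (Log.Covers.trans logH (logH.covers_of_part _ _ _ logH_part165) (logH.covers_of_part _ _ _ logH_part166))))) (Log.Covers.trans logH (Log.Covers.trans logH (Log.Covers.trans logH (Log.Covers.trans logH (logH.covers_of_part _ _ _ logH_part167) (logH.covers_of_part _ _ _ logH_part168)) (Log.Covers.trans logH (logH.covers_of_part _ _ _ logH_part169) (logH.covers_of_part _ _ _ logH_part170))) (Log.Covers.trans logH (Log.Covers.trans logH (logH.covers_of_part _ _ _ logH_part171) (logH.covers_of_part _ _ _ logH_part172)) (Log.Covers.trans logH (logH.covers_of_part _ _ _ logH_part173) (logH.covers_of_part _ _ _ logH_part174)))) (Log.Covers.trans logH (Log.Covers.trans logH (Log.Covers.trans logH (logH.covers_of_part _ _ _ logH_part175) (logH.covers_of_part _ _ _ logH_part176)) (Log.Covers.trans logH (logH.covers_of_part _ _ _ logH_part177) (logH.covers_of_part _ _ _ logH_part178))) (Log.Covers.trans logH (Log.Covers.trans logH (logH.covers_of_part _ _ _ logH_part179)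 (logH.covers_of_part _ _ _ logH_part180)) (Log.Covers.trans logH (logH.covers_of_part _ _ _ logH_part181) (logH.covers_of_part _ _ _ logH_part182))))))) (Log.Covers.trans logH (Log.Covers.trans logH (Log.Covers.trans logH (Log.Covers.trans logH (Log.Covers.trans logH (logH.covers_of_part _ _ _ logH_part183) (Log.Covers.trans logH (logH.covers_of_part _ _ _ logH_part184) (logH.covers_of_part _ _ _ logH_part185))) (Log.Covers.trans logH (Log.Covers.trans logH (logH.covers_of_part _ _ _ logH_part186) (logH.covers_of_part _ _ _ logH_part187)) (Log.Covers.trans logH (logH.covers_of_part _ _ _ logH_part188) (logH.covers_of_part _ _ _ logH_part189)))) (Log.Covers.trans logH (Log.Covers.trans logH (Log.Covers.trans logH (logH.covers_of_part _ _ _ logH_part190) (logH.covers_of_part _ _ _ logH_part191)) (Log.Covers.trans logH (logH.covers_of_part _ _ _ logH_part192) (logH.covers_of_part _ _ _ logH_part193))) (Log.Covers.trans logH (Log.Covers.trans logH (logH.covers_of_part _ _ _ logH_part194) (logH.covers_of_part _ _ _ logH_part195)) (Log.Covers.trans logH (logH.covers_of_part _ _ _ logH_part196) (logH.covers_of_part _ _ _ logH_part197))))) (Log.Covers.trans logH (Log.Covers.trans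 logH (Log.Covers.trans logH (Log.Covers.trans logH (logH.covers_of_part _ _ _ logH_part198) (logH.covers_of_part _ _ _ logH_part199)) (Log.Covers.trans logH (logH.covers_of_part _ _ _ logH_part200) (logH.covers_of_part _ _ _ logH_part201))) (Log.Covers.trans logH (Log.Covers.trans logH (logH.covers_of_part _ _ _ logH_part202) (logH.covers_of_part _ _ _ logH_part203)) (Log.Covers.trans logH (logH.covers_of_part _ _ _ logH_part204) (logH.covers_of_part _ _ _ logH_part205)))) (Log.Covers.trans logH (Log.Covers.trans logH (Log.Covers.trans logH (logH.covers_of_part _ _ _ logH_part206) (logH.covers_of_part _ _ _ logH_part207)) (Log.Covers.trans logH (logH.covers_of_part _ _ _ logH_part208) (logH.covers_of_part _ _ _ logH_part209))) (Log.Covers.trans logH (Log.Covers.trans logH (logH.covers_of_part _ _ _ logH_part210) (logH.covers_of_part _ _ _ logH_part211)) (Log.Covers.trans logH (logH.covers_of_part _ _ _ logH_part212) (logH.covers_of_part _ _ _ logH_part213)))))) (Log.Covers.trans logH (Log.Covers.trans logH (Log.Covers.trans logH (Log.Covers.trans logH (logH.covers_of_part _ _ _ logH_part214) (Log.Covers.trans logH (logH.covers_of_part _ _ _ logH_part215) (logH.covers_of_part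 _ _ _ logH_part216))) (Log.Covers.trans logH (Log.Covers.trans logH (logH.covers_of_part _ _ _ logH_part217) (logH.covers_of_part _ _ _ logH_part218)) (Log.Covers.trans logH (logH.covers_of_part _ _ _ logH_part219) (logH.covers_of_part _ _ _ logH_part220)))) (Log.Covers.trans logH (Log.Covers.trans logH (Log.Covers.trans logH (logH.covers_of_part _ _ _ logH_part221) (logH.covers_of_part _ _ _ logH_part222)) (Log.Covers.trans logH (logH.covers_of_part _ _ _ logH_part223) (logH.covers_of_part _ _ _ logH_part224))) (Log.Covers.trans logH (Log.Covers.trans logH (logH.covers_of_part _ _ _ logH_part225) (logH.covers_of_part _ _ _ logH_part226)) (Log.Covers.trans logH (logH.covers_of_part _ _ _ logH_part227) (logH.covers_of_part _ _ _ logH_part228))))) (Log.Covers.trans logH (Log.Covers.trans logH (Log.Covers.trans logH (Log.Covers.trans logH (logH.covers_of_part _ _ _ logH_part229) (logH.covers_of_part _ _ _ logH_part230)) (Log.Covers.trans logH (logH.covers_of_part _ _ _ logH_part231) (logH.covers_of_part _ _ _ logH_part232))) (Log.Covers.trans logH (Log.Covers.trans logH (logH.covers_of_part _ _ _ logH_part233) (logH.covers_of_part _ _ _ logH_part234)) (Log.Covers.trans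 logH (logH.covers_of_part _ _ _ logH_part235) (logH.covers_of_part _ _ _ logH_part236)))) (Log.Covers.trans logH (Log.Covers.trans logH (Log.Covers.trans logH (logH.covers_of_part _ _ _ logH_part237) (logH.covers_of_part _ _ _ logH_part238)) (Log.Covers.trans logH (logH.covers_of_part _ _ _ logH_part239) (logH.covers_of_part _ _ _ logH_part240))) (Log.Covers.trans logH (Log.Covers.trans logH (logH.covers_of_part _ _ _ logH_part241) (logH.covers_of_part _ _ _ logH_part242)) (Log.Covers.trans logH (logH.covers_of_part _ _ _ logH_part243) (logH.covers_of_part _ _ _ logH_part244))))))))) rfl rfl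

theorem logH_checks : logH.Checks where
  pos := by decide +kernel
  defs := logH_defs
  facts := logH_facts
  final := by
    intro k hk
    change k < 29155 * 6 at hk
    refine of_allBlock (n := 174930) (size := 512) (by decide) (fun j hj => ?_) (by omega)
    have hj' : j < 342 := by omega
    interval_cases j
    · exact logH_final0
    · exact logH_final1
    · exact logH_final2
    · exact logH_final3
    · exact logH_final4
    · exact logH_final5
    · exact logH_final6
    · exact logH_final7
    · exact logH_final8
    · exact logH_final9
    · exact logH_final10
    · exact logH_final11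
    · exact logH_final12
    · exact logH_final13
    · exact logH_final14
    · exact logH_final15
    · exact logH_final16
    · exact logH_final17
    · exact logH_final18
    · exact logH_final19
    · exact logH_final20
    · exact logH_final21
    · exact logH_final22
    · exact logH_final23
    · exact logH_final24
    · exact logH_final25
    · exact logH_final26
    · exact logH_final27
    · exact logH_final28
    · exact logH_final29
    · exact logH_final30
    · exact logH_final31
    · exact logH_final32
    · exact logH_final33
    · exact logH_final34
    · exact logH_final35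
    · exact logH_final36
    · exact logH_final37
    · exact logH_final38
    · exact logH_final39
    · exact logH_final40
    · exact logH_final41
    · exact logH_final42
    · exact logH_final43
    · exact logH_final44
    · exact logH_final45
    · exact logH_final46
    · exact logH_final47
    · exact logH_final48
    · exact logH_final49
    · exact logH_final50
    · exact logH_final51
    · exact logH_final52
    · exact logH_final53
    · exact logH_final54
    · exact logH_final55
    · exact logH_final56
    · exact logH_final57
    · exact logH_final58
    · exact logH_final59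
    · exact logH_final60
    · exact logH_final61
    · exact logH_final62
    · exact logH_final63
    · exact logH_final64
    · exact logH_final65
    · exact logH_final66
    · exact logH_final67
    · exact logH_final68
    · exact logH_final69
    · exact logH_final70
    · exact logH_final71
    · exact logH_final72
    · exact logH_final73
    · exact logH_final74
    · exact logH_final75
    · exact logH_final76
    · exact logH_final77
    · exact logH_final78
    · exact logH_final79
    · exact logH_final80
    · exact logH_final81
    · exact logH_final82
    · exact logH_final83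
    · exact logH_final84
    · exact logH_final85
    · exact logH_final86
    · exact logH_final87
    · exact logH_final88
    · exact logH_final89
    · exact logH_final90
    · exact logH_final91
    · exact logH_final92
    · exact logH_final93
    · exact logH_final94
    · exact logH_final95
    · exact logH_final96
    · exact logH_final97
    · exact logH_final98
    · exact logH_final99
    · exact logH_final100
    · exact logH_final101
    · exact logH_final102
    · exact logH_final103
    · exact logH_final104
    · exact logH_final105
    · exact logH_final106
    · exact logH_final107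
    · exact logH_final108
    · exact logH_final109
    · exact logH_final110
    · exact logH_final111
    · exact logH_final112
    · exact logH_final113
    · exact logH_final114
    · exact logH_final115
    · exact logH_final116
    · exact logH_final117
    · exact logH_final118
    · exact logH_final119
    · exact logH_final120
    · exact logH_final121
    · exact logH_final122
    · exact logH_final123
    · exact logH_final124
    · exact logH_final125
    · exact logH_final126
    · exact logH_final127
    · exact logH_final128
    · exact logH_final129
    · exact logH_final130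
    · exact logH_final131
    · exact logH_final132
    · exact logH_final133
    · exact logH_final134
    · exact logH_final135
    · exact logH_final136
    · exact logH_final137
    · exact logH_final138
    · exact logH_final139
    · exact logH_final140
    · exact logH_final141
    · exact logH_final142
    · exact logH_final143
    · exact logH_final144
    · exact logH_final145
    · exact logH_final146
    · exact logH_final147
    · exact logH_final148
    · exact logH_final149
    · exact logH_final150
    · exact logH_final151
    · exact logH_final152
    · exact logH_final153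
    · exact logH_final154
    · exact logH_final155
    · exact logH_final156
    · exact logH_final157
    · exact logH_final158
    · exact logH_final159
    · exact logH_final160
    · exact logH_final161
    · exact logH_final162
    · exact logH_final163
    · exact logH_final164
    · exact logH_final165
    · exact logH_final166
    · exact logH_final167
    · exact logH_final168
    · exact logH_final169
    · exact logH_final170
    · exact logH_final171
    · exact logH_final172
    · exact logH_final173
    · exact logH_final174
    · exact logH_final175
    · exact logH_final176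
    · exact logH_final177
    · exact logH_final178
    · exact logH_final179
    · exact logH_final180
    · exact logH_final181
    · exact logH_final182
    · exact logH_final183
    · exact logH_final184
    · exact logH_final185
    · exact logH_final186
    · exact logH_final187
    · exact logH_final188
    · exact logH_final189
    · exact logH_final190
    · exact logH_final191
    · exact logH_final192
    · exact logH_final193
    · exact logH_final194
    · exact logH_final195
    · exact logH_final196
    · exact logH_final197
    · exact logH_final198
    · exact logH_final199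
    · exact logH_final200
    · exact logH_final201
    · exact logH_final202
    · exact logH_final203
    · exact logH_final204
    · exact logH_final205
    · exact logH_final206
    · exact logH_final207
    · exact logH_final208
    · exact logH_final209
    · exact logH_final210
    · exact logH_final211
    · exact logH_final212
    · exact logH_final213
    · exact logH_final214
    · exact logH_final215
    · exact logH_final216
    · exact logH_final217
    · exact logH_final218
    · exact logH_final219
    · exact logH_final220
    · exact logH_final221
    · exact logH_final222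
    · exact logH_final223
    · exact logH_final224
    · exact logH_final225
    · exact logH_final226
    · exact logH_final227
    · exact logH_final228
    · exact logH_final229
    · exact logH_final230
    · exact logH_final231
    · exact logH_final232
    · exact logH_final233
    · exact logH_final234
    · exact logH_final235
    · exact logH_final236
    · exact logH_final237
    · exact logH_final238
    · exact logH_final239
    · exact logH_final240
    · exact logH_final241
    · exact logH_final242
    · exact logH_final243
    · exact logH_final244
    · exact logH_final245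
    · exact logH_final246
    · exact logH_final247
    · exact logH_final248
    · exact logH_final249
    · exact logH_final250
    · exact logH_final251
    · exact logH_final252
    · exact logH_final253
    · exact logH_final254
    · exact logH_final255
    · exact logH_final256
    · exact logH_final257
    · exact logH_final258
    · exact logH_final259
    · exact logH_final260
    · exact logH_final261
    · exact logH_final262
    · exact logH_final263
    · exact logH_final264
    · exact logH_final265
    · exact logH_final266
    · exact logH_final267
    · exact logH_final268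
    · exact logH_final269
    · exact logH_final270
    · exact logH_final271
    · exact logH_final272
    · exact logH_final273
    · exact logH_final274
    · exact logH_final275
    · exact logH_final276
    · exact logH_final277
    · exact logH_final278
    · exact logH_final279
    · exact logH_final280
    · exact logH_final281
    · exact logH_final282
    · exact logH_final283
    · exact logH_final284
    · exact logH_final285
    · exact logH_final286
    · exact logH_final287
    · exact logH_final288
    · exact logH_final289
    · exact logH_final290
    · exact logH_final291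
    · exact logH_final292
    · exact logH_final293
    · exact logH_final294
    · exact logH_final295
    · exact logH_final296
    · exact logH_final297
    · exact logH_final298
    · exact logH_final299
    · exact logH_final300
    · exact logH_final301
    · exact logH_final302
    · exact logH_final303
    · exact logH_final304
    · exact logH_final305
    · exact logH_final306
    · exact logH_final307
    · exact logH_final308
    · exact logH_final309
    · exact logH_final310
    · exact logH_final311
    · exact logH_final312
    · exact logH_final313
    · exact logH_final314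
    · exact logH_final315
    · exact logH_final316
    · exact logH_final317
    · exact logH_final318
    · exact logH_final319
    · exact logH_final320
    · exact logH_final321
    · exact logH_final322
    · exact logH_final323
    · exact logH_final324
    · exact logH_final325
    · exact logH_final326
    · exact logH_final327
    · exact logH_final328
    · exact logH_final329
    · exact logH_final330
    · exact logH_final331
    · exact logH_final332
    · exact logH_final333
    · exact logH_final334
    · exact logH_final335
    · exact logH_final336
    · exact logH_final337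
    · exact logH_final338
    · exact logH_final339
    · exact logH_final340
    · exact logH_final341

theorem logH_derived : derivedAll 6 logHBase logH.rels [(4, 0, 0), (0, 0, 0), (14, 0, 0), (16, 0, 0), (2, 0, 0), (17, 0, 0), (13, 0, 0), (12, 0, 0), (15, 0, 0), (20, 0, 0), (11, 0, 0), (7, 0, 0), (6, 0, 0), (10, 0, 0), (8, 0, 0), (26, 0, 0), (32, 0, 0), (5, 0, 0), (31, 0, 0), (21, 0, 0), (30, 0, 0), (36, 0, 0), (33, 0, 0), (22, 0, 0), (24, 0, 0), (34, 0, 0), (28, 0, 0), (35, 0, 0), (39, 0, 0), (37, 0, 0), (38, 0, 0), (0, 0, 2), (0, 0, 2), (0, 0, 2), (0, 0, 2), (0, 0, 2), (9, 0, 0), (19, 0, 0), (23, 0, 0), (29, 0, 0), (27, 0, 0), (25, 0, 0), (1, 0, 0), (3, 0, 0), (0, 0, 2), (0, 0, 2)] = true := by decide +kernel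

end Cfsg.Agent.Fus.Transv.EnumH
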