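import Cfsg.Agent.Lib.Fus.Transv.EnumH.LogHData

/-! Checks of a coset enumeration. -/

set_option autoImplicit false
set_option maxRecDepth 100000
set_option maxHeartbeats 4000000
set_option Elab.async false

namespace Cfsg.Agent.Fus.Transv.EnumH

open Cfsg.Agent.Spor.Cos

theorem logH_def28 : allBlock logH.chkDef 106902 512 28 = true := by decide +kernel

theorem logH_def29 : allBlock logH.chkDef 106902 512 29 = true := by decide +kernel

theorem logH_def30 : allBlock logH.chkDef 106902 512 30 = true := by decide +kernel

theorem logH_def31 : allBlock logH.chkDef 106902 512 31 = true := by decide +kernel

theorem logH_def32 : allBlock logH.chkDef 106902 512 32 = true := by decide +kernel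

theorem logH_def33 : allBlock logH.chkDef 106902 512 33 = true := by decide +kernel

theorem logH_def34 : allBlock logH.chkDef 106902 512 34 = true := by decide +kernel

theorem logH_def35 : allBlock logH.chkDef 106902 512 35 = true := by decide +kernel

theorem logH_def36 : allBlock logH.chkDef 106902 512 36 = true := by decide +kernel

theorem logH_def37 : allBlock logH.chkDef 106902 512 37 = true := by decide +kernel

theorem logH_def38 : allBlock logH.chkDef 106902 512 38 = true := by decide +kernel

theorem logH_def39 : allBlock logH.chkDef 106902 512 39 = true := by decide +kernel

theorem logH_def40 : allBlock logH.chkDef 106902 512 40 = true := by decide +kernel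

theorem logH_def41 : allBlock logH.chkDef 106902 512 41 = true := by decide +kernel

end Cfsg.Agent.Fus.Transv.EnumH
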