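import Cfsg.Agent.Lib.Fus.Transv.EnumH.LogHData

/-! Checks of a coset enumeration. -/

set_option autoImplicit false
set_option maxRecDepth 100000
set_option maxHeartbeats 4000000
set_option Elab.async false

namespace Cfsg.Agent.Fus.Transv.EnumH

open Cfsg.Agent.Spor.Cos

theorem logH_final0 : allBlock logH.chkFinal 174930 512 0 = true := by decide +kernel

theorem logH_final1 : allBlock logH.chkFinal 174930 512 1 = true := by decide +kernel

theorem logH_final2 : allBlock logH.chkFinal 174930 512 2 = true := by decide +kernel

theorem logH_final3 : allBlock logH.chkFinal 174930 512 3 = true := by decide +kernel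

theorem logH_final4 : allBlock logH.chkFinal 174930 512 4 = true := by decide +kernel

theorem logH_final5 : allBlock logH.chkFinal 174930 512 5 = true := by decide +kernel

theorem logH_final6 : allBlock logH.chkFinal 174930 512 6 = true := by decide +kernel

theorem logH_final7 : allBlock logH.chkFinal 174930 512 7 = true := by decide +kernel

theorem logH_final8 : allBlock logH.chkFinal 174930 512 8 = true := by decide +kernel

theorem logH_final9 : allBlock logH.chkFinal 174930 512 9 = true := by decide +kernel

theorem logH_final10 : allBlock logH.chkFinal 174930 512 10 = true := by decide +kernel

theorem logH_final11 : allBlock logH.chkFinal 174930 512 11 = true := by decide +kernel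

theorem logH_final12 : allBlock logH.chkFinal 174930 512 12 = true := by decide +kernel

theorem logH_final13 : allBlock logH.chkFinal 174930 512 13 = true := by decide +kernel

end Cfsg.Agent.Fus.Transv.EnumH
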