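import Cfsg.Agent.Lib.Fus.Transv.EnumH.LogHData

/-! Checks of a coset enumeration. -/

set_option autoImplicit false
set_option maxRecDepth 100000
set_option maxHeartbeats 4000000
set_option Elab.async false

namespace Cfsg.Agent.Fus.Transv.EnumH

open Cfsg.Agent.Spor.Cos

theorem logH_final336 : allBlock logH.chkFinal 174930 512 336 = true := by decide +kernel

theorem logH_final337 : allBlock logH.chkFinal 174930 512 337 = true := by decide +kernel

theorem logH_final338 : allBlock logH.chkFinal 174930 512 338 = true := by decide +kernel

theorem logH_final339 : allBlock logH.chkFinal 174930 512 339 = true := by decide +kernel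

theorem logH_final340 : allBlock logH.chkFinal 174930 512 340 = true := by decide +kernel

theorem logH_final341 : allBlock logH.chkFinal 174930 512 341 = true := by decide +kernel

end Cfsg.Agent.Fus.Transv.EnumH
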